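import Groth.Agent.S0582
import Mathlib

/-!
# Big projective modules (Bass)
-/

universe u

namespace Groth.Agent.BassBig

variable {R : Type u} [CommRing R]

/-- Nowhere finitely generated, fibrewise. -/
def Big (R : Type u) [CommRing R] (P : Type u) [AddCommGroup P] [Module R P] : Prop :=
  ∀ (m : Ideal R), m.IsMaximal → ∀ N : Submodule R P, N.FG → N ⊔ m • ⊤ ≠ ⊤

variable {P : Type u} [AddCommGroup P] [Module R P]

theorem finite_localized [Module.Projective R P] (m : Ideal R) [m.IsMaximal] {N : Submodule R P}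
    (hN : N.FG) (h : N ⊔ m • ⊤ = ⊤) :
    Module.Finite (Localization.AtPrime m) (LocalizedModule m.primeCompl P) := by
  let A := Localization.AtPrime m
  let Q := LocalizedModule m.primeCompl P
  haveI : Module.Free A Q := S0582.result A Q
  let b := Module.Free.chooseBasis A Q
  let f : P →ₗ[R] Q := LocalizedModule.mkLinearMap m.primeCompl P
  classical
  obtain ⟨G, hG⟩ := hN
  let T := G.biUnion fun g => (b.repr (f g)).support
  have hT : ∀ i, i ∈ T := by
    intro i
    by_contra hi
    let U : Submodule R P := (((IsLocalRing.maximalIdeal A).restrictScalars R).comap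
      (((b.coord i).restrictScalars R) ∘ₗ f))
    have hNU : N ≤ U := by
      rw [← hG, Submodule.span_le]
      intro g hg
      have : b.repr (f g) i = 0 := by
        by_contra h0
        exact hi (Finset.mem_biUnion.2 ⟨g, hg, Finsupp.mem_support_iff.2 h0⟩)
      show b.repr (f g) i ∈ IsLocalRing.maximalIdeal A
      rw [this]
      exact (IsLocalRing.maximalIdeal A).zero_mem
    have hmU : m • ⊤ ≤ U := Submodule.smul_le.2 fun r hr x _ => by
      show b.coord i (f (r • x)) ∈ IsLocalRing.maximalIdeal A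
      rw [map_smul, ← IsScalarTower.algebraMap_smul A r (f x), map_smul, smul_eq_mul]
      exact Ideal.mul_mem_right _ _ ((IsLocalization.AtPrime.to_map_mem_maximal_iff A m r).2 hr)
    have htop : ∀ x, x ∈ U := fun x => by
      have hx : x ∈ N ⊔ m • (⊤ : Submodule R P) := by rw [h]; exact Submodule.mem_top
      exact (sup_le hNU hmU) hx
    obtain ⟨⟨x, s⟩, hx⟩ := IsLocalizedModule.surj m.primeCompl f (b i)
    have h1 : b.coord i (f x) = algebraMap R A s := by
      rw [← hx, Submonoid.smul_def, ← IsScalarTower.algebraMap_smul A (s : R) (b i), map_smul]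
      simp
    have h2 : b.coord i (f x) ∈ IsLocalRing.maximalIdeal A := htop x
    rw [h1] at h2
    exact s.2 ((IsLocalization.AtPrime.to_map_mem_maximal_iff A m s).1 h2)
  haveI : Finite (Module.Free.ChooseBasisIndex A Q) :=
    Finite.of_injective (fun i => (⟨i, hT i⟩ : T)) fun i j h => congrArg Subtype.val h
  exact Module.Finite.of_basis b

theorem big_of_not_finite [Module.Projective R P]
    (hP : ∀ (m : Ideal R) [m.IsMaximal],
      ¬ Module.Finite (Localization.AtPrime m) (LocalizedModule m.primeCompl P)) : Big R P :=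
  fun m _ N hN h => hP m (finite_localized m hN h)

theorem mem_smul_of_forall_dual [Module.Projective R P] {m : Ideal R} {x : P}
    (h : ∀ ψ : P →ₗ[R] R, ψ x ∈ m) : x ∈ m • (⊤ : Submodule R P) := by
  obtain ⟨i, hi⟩ := Module.Projective.out (R := R) (P := P)
  rw [← hi x, Finsupp.linearCombination_apply]
  refine Submodule.sum_mem _ fun c _ => ?_
  exact Submodule.smul_mem_smul (h (Finsupp.lapply c ∘ₗ i)) Submodule.mem_top

variable [IsNoetherianRing (R ⧸ (⊥ : Ideal R).jacobson)]

omit [IsNoetherianRing (R ⧸ (⊥ : Ideal R).jacobson)] in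
theorem isNoetherian_quotient_self (J : Ideal R) [IsNoetherianRing (R ⧸ J)] :
    IsNoetherian R (R ⧸ J) := by
  rw [isNoetherian_iff']
  let f : Submodule R (R ⧸ J) → Submodule (R ⧸ J) (R ⧸ J) := fun W => Submodule.span (R ⧸ J) W
  have hf : ∀ W, (f W).restrictScalars R = W := fun W => by
    rw [Submodule.restrictScalars_span R (R ⧸ J) Ideal.Quotient.mk_surjective, Submodule.span_eq]
  have hmono : StrictMono f := fun a b hab => lt_of_le_of_ne (Submodule.span_mono hab.le)
    fun heq => hab.ne (by rw [← hf a, heq, hf b])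
  haveI : WellFoundedGT (Submodule (R ⧸ J) (R ⧸ J)) := isNoetherian_iff'.1 inferInstance
  exact hmono.wellFoundedGT

/-- The order ideal of `x` modulo `J`. -/
def ord (J : Ideal R) (x : P) : Ideal (R ⧸ J) :=
  Ideal.map (Ideal.Quotient.mk J) (LinearMap.range (Module.Dual.eval R P x) : Ideal R)

omit [IsNoetherianRing (R ⧸ (⊥ : Ideal R).jacobson)] in
theorem mk_mem_ord (J : Ideal R) (x : P) (φ : P →ₗ[R] R) : Ideal.Quotient.mk J (φ x) ∈ ord J x :=
  Ideal.mem_map_of_mem _ ⟨φ, rfl⟩

omit [IsNoetherianRing (R ⧸ (⊥ : Ideal R).jacobson)] in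
theorem exists_of_mem_ord {J : Ideal R} {x : P} {z : R ⧸ J} (hz : z ∈ ord J x) :
    ∃ φ : P →ₗ[R] R, Ideal.Quotient.mk J (φ x) = z := by
  obtain ⟨_, ⟨φ, rfl⟩, rfl⟩ := (Ideal.mem_map_iff_of_surjective _ Ideal.Quotient.mk_surjective).1 hz
  exact ⟨φ, rfl⟩

attribute [local irreducible] ord

omit [IsNoetherianRing (R ⧸ (⊥ : Ideal R).jacobson)] in
theorem exists_fg_cover (J : Ideal R) [IsNoetherianRing (R ⧸ J)] {t : Type u} [Finite t]
    (φ : t → P →ₗ[R] R) (M : Submodule R P) :
    ∃ N : Submodule R P, N.FG ∧ ∀ x ∈ M, ∃ n ∈ N, n ∈ M ∧ ∀ z, φ z (x - n) ∈ J := by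
  haveI := isNoetherian_quotient_self J
  let g : M →ₗ[R] (t → R ⧸ J) :=
    LinearMap.pi fun z => (Ideal.Quotient.mkₐ R J).toLinearMap ∘ₗ φ z ∘ₗ M.subtype
  obtain ⟨T, hT⟩ := IsNoetherian.noetherian (LinearMap.range g)
  have hTr : ∀ y : T, ∃ x : M, g x = y := fun y => by
    have hy : (y : t → R ⧸ J) ∈ LinearMap.range g := by rw [← hT]; exact Submodule.subset_span y.2
    exact hy
  choose lift hlift using hTr
  let W : Submodule R M := Submodule.span R (Set.range lift)
  have hWfg : W.FG := Submodule.fg_span (Set.finite_range lift)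
  have hW : LinearMap.range g ≤ W.map g := by
    rw [← hT, Submodule.span_le]
    exact fun y hy => ⟨lift ⟨y, hy⟩, Submodule.subset_span ⟨_, rfl⟩, hlift ⟨y, hy⟩⟩
  refine ⟨W.map M.subtype, hWfg.map _, fun x hx => ?_⟩
  obtain ⟨n, hn, hgn⟩ := hW ⟨⟨x, hx⟩, rfl⟩
  refine ⟨n, ⟨n, hn, rfl⟩, n.2, fun z => ?_⟩
  rw [← Ideal.Quotient.eq_zero_iff_mem, map_sub, map_sub, sub_eq_zero]
  exact (congrFun hgn z).symm

omit [IsNoetherianRing (R ⧸ (⊥ : Ideal R).jacobson)] in
theorem exists_ord_lt [Module.Projective R P] (hP : Big R P) (J : Ideal R) [IsNoetherianRing (R ⧸ J)]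
    (s x₀ : P) (M : Submodule R P) (hM : Submodule.span R {s} ⊔ M = ⊤) (hne : ord J x₀ ≠ ⊤) :
    ∃ y ∈ M, ord J x₀ < ord J (x₀ + y) := by
  classical
  obtain ⟨mb, hmb, hle⟩ := Ideal.exists_le_maximal _ hne
  haveI := hmb
  have hmm : (mb.comap (Ideal.Quotient.mk J)).IsMaximal :=
    Ideal.comap_isMaximal_of_surjective _ Ideal.Quotient.mk_surjective
  obtain ⟨t, ht⟩ := IsNoetherian.noetherian (ord J x₀)
  choose φ hφ using fun z : t => exists_of_mem_ord (show (z : R ⧸ J) ∈ ord J x₀ by rw [← ht]; exact Submodule.subset_span z.2)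
  obtain ⟨N, hN, hcov⟩ := exists_fg_cover J φ M
  by_contra hcon
  refine hP _ hmm (Submodule.span R {s} ⊔ N) ((Submodule.fg_span_singleton s).sup hN) ?_
  refine top_le_iff.1 (hM.ge.trans ?_)
  refine sup_le (le_sup_left.trans le_sup_left) fun x hx => ?_
  obtain ⟨n, hn, hn', hk⟩ := hcov x hx
  rw [← add_sub_cancel n x]
  have hn1 : n ∈ Submodule.span R {s} ⊔ N := Submodule.mem_sup_right hn
  refine Submodule.add_mem_sup hn1 ?_
  refine mem_smul_of_forall_dual fun ψ => ?_
  by_contra hψ
  refine hcon ⟨x - n, M.sub_mem hx hn', lt_of_le_of_ne ?_ fun heq => hψ ?_⟩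
  · rw [← ht, Submodule.span_le]
    intro z hz
    have h2 := mk_mem_ord J (x₀ + (x - n)) (φ ⟨z, hz⟩)
    rwa [map_add, map_add, Ideal.Quotient.eq_zero_iff_mem.2 (hk ⟨z, hz⟩), add_zero, hφ] at h2
  · have h2 := mk_mem_ord J (x₀ + (x - n)) ψ
    rw [← heq, map_add, map_add] at h2
    exact (Ideal.add_mem_iff_right _ (hle (mk_mem_ord J x₀ ψ))).1 (hle h2)

/-- Unimodular elements in cosets. -/
theorem exists_unimodular [Module.Projective R P] (hP : Big R P) (s : P) (M : Submodule R P)
    (hM : Submodule.span R {s} ⊔ M = ⊤) : ∃ m ∈ M, ∃ φ : P →ₗ[R] R, φ (s + m) = 1 := by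
  obtain ⟨_, ⟨m₀, hm₀, rfl⟩, hmax⟩ :=
    set_has_maximal_iff_noetherian.2
      (inferInstance : IsNoetherian (R ⧸ (⊥ : Ideal R).jacobson) (R ⧸ (⊥ : Ideal R).jacobson))
      {K | ∃ m ∈ M, ord (⊥ : Ideal R).jacobson (s + m) = K} ⟨_, 0, M.zero_mem, rfl⟩
  by_cases hne : ord (⊥ : Ideal R).jacobson (s + m₀) = ⊤
  · obtain ⟨φ, hφ⟩ := exists_of_mem_ord (J := (⊥ : Ideal R).jacobson) (x := s + m₀) (z := 1)
      (by rw [hne]; exact Submodule.mem_top)
    have hu : IsUnit (φ (s + m₀)) := by
      rw [← map_one (Ideal.Quotient.mk (⊥ : Ideal R).jacobson), Ideal.Quotient.eq] at hφ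
      obtain ⟨v, hv⟩ := Ideal.mem_jacobson_iff.1 hφ 1
      rw [Ideal.mem_bot, sub_eq_zero] at hv
      exact IsUnit.of_mul_eq_one v (by linear_combination hv)
    obtain ⟨v, hv⟩ := hu.exists_left_inv
    exact ⟨m₀, hm₀, v • φ, hv⟩
  · obtain ⟨y, hy, hlt⟩ := exists_ord_lt hP _ s (s + m₀) M hM hne
    exact absurd hlt (hmax _ ⟨m₀ + y, M.add_mem hm₀ hy, by rw [add_assoc]⟩)

/-- The predicate we induct on. -/
def HasSummand (R : Type u) [CommRing R] (P : Type u) [AddCommGroup P] [Module R P] (s : P) : Prop :=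
  ∃ K K' : Submodule R P, IsCompl K K' ∧ Module.Finite R K ∧ Module.IsStablyFree R K ∧ s ∈ K

theorem reduce_one [Module.Projective R P] (hP : Big R P) {s : P}
    (h : HasSummand R (P × R) (s, 0)) : HasSummand R P s := by
  obtain ⟨L, C, hLC, hLfin, hLsf, hs⟩ := h
  let π : (P × R) →ₗ[R] C := C.projectionOnto L hLC.symm
  have hπC : ∀ c : C, π (c : P × R) = c := Submodule.projectionOnto_apply_left hLC.symm
  have hπ0 : ∀ x, π x = 0 ↔ x ∈ L := fun x => Submodule.projectionOnto_apply_eq_zero_iff hLC.symm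
  haveI : Module.Projective R C :=
    Module.Projective.of_split C.subtype π (LinearMap.ext hπC)
  have hC : Big R C := by
    intro m hm N hN h
    haveI := hLfin
    refine hP m hm (L.map (LinearMap.fst R P R) ⊔ (N.map C.subtype).map (LinearMap.fst R P R))
      (((Module.Finite.iff_fg.1 hLfin).map _).sup ((hN.map _).map _)) ?_
    rw [eq_top_iff]
    rintro p -
    obtain ⟨l, hl, c, hc, hlc⟩ := Submodule.mem_sup.1 (hLC.sup_eq_top ▸ Submodule.mem_top : (p, (0:R)) ∈ L ⊔ C)
    obtain ⟨n, hn, k, hk, hnk⟩ := Submodule.mem_sup.1 (show (⟨c, hc⟩ : C) ∈ N ⊔ m • (⊤ : Submodule R C) by rw [h]; exact Submodule.mem_top)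
    have hp : p = l.1 + ((n : P × R).1 + (k : P × R).1) := by
      have h1 : (n : P × R) + (k : P × R) = c := congrArg Subtype.val hnk
      have h2 := congrArg Prod.fst hlc
      rw [← h1] at h2
      simpa using h2.symm
    rw [hp, ← add_assoc]
    refine Submodule.add_mem_sup (Submodule.add_mem_sup ⟨l, hl, rfl⟩ ⟨_, ⟨n, hn, rfl⟩, rfl⟩) ?_
    have : (LinearMap.fst R P R ∘ₗ C.subtype) k ∈ (m • (⊤ : Submodule R C)).map (LinearMap.fst R P R ∘ₗ C.subtype) :=
      Submodule.mem_map_of_mem hk
    rw [Submodule.map_smul''] at this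
    exact Submodule.smul_mono le_rfl le_top this
  let e : P × R := (0, 1)
  let M : Submodule R C := LinearMap.range (π ∘ₗ LinearMap.inl R P R)
  have hM : Submodule.span R {π e} ⊔ M = ⊤ := by
    rw [eq_top_iff]
    rintro c -
    have : c = (c : P × R).2 • π e + π ((c : P × R).1, 0) := by
      rw [← map_smul, ← map_add]
      conv_lhs => rw [← hπC c]
      congr 1
      simp [e]
    rw [this]
    exact Submodule.add_mem_sup (Submodule.smul_mem _ _ (Submodule.mem_span_singleton_self _)) ⟨_, rfl⟩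
  obtain ⟨_, ⟨m, rfl⟩, φ, hφ⟩ := exists_unimodular hC (π e) M hM
  let τ : (P × R) ≃ₗ[R] (P × R) :=
    LinearEquiv.ofLinear
      (LinearMap.prod (LinearMap.fst R P R + (LinearMap.snd R P R).smulRight m) (LinearMap.snd R P R))
      (LinearMap.prod (LinearMap.fst R P R - (LinearMap.snd R P R).smulRight m) (LinearMap.snd R P R))
      (LinearMap.ext fun x => by ext <;> simp)
      (LinearMap.ext fun x => by ext <;> simp)
  have hτe : τ e = e + (m, 0) := by ext <;> simp [τ, e]
  -- everything is read off from the idempotent-free map `x ↦ π x - φ (π x) • y`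
  let y : C := π (τ e)
  have hy : φ y = 1 := by
    show φ (π (τ e)) = 1
    rw [hτe, map_add]
    exact hφ
  let q : (P × R) →ₗ[R] C := π - (φ ∘ₗ π).smulRight y
  have hq : ∀ x, q x = π x - φ (π x) • y := fun x => rfl
  let L' : Submodule R (P × R) := LinearMap.ker q
  let C' : Submodule R (P × R) := (LinearMap.ker φ).map C.subtype
  have hcompl : IsCompl L' C' := by
    refine IsCompl.of_eq ?_ ?_
    · rw [Submodule.eq_bot_iff]
      rintro _ ⟨hx, c, hc, rfl⟩
      have h1 : q c = 0 := hx
      rw [hq, hπC, LinearMap.mem_ker.1 hc, zero_smul, sub_zero] at h1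
      rw [h1]; rfl
    · rw [eq_top_iff]
      rintro x -
      have : x = (x - (q x : P × R)) + (q x : P × R) := (sub_add_cancel _ _).symm
      rw [this]
      refine Submodule.add_mem_sup ?_ ⟨q x, ?_, rfl⟩
      · show q (x - (q x : P × R)) = 0
        rw [map_sub, sub_eq_zero, hq (q x : P × R), hπC]
        have : φ (q x) = 0 := by
          rw [hq, map_sub, map_smul, hy, smul_eq_mul, mul_one, sub_self]
        rw [this, zero_smul, sub_zero]
      · show φ (q x) = 0
        rw [hq, map_sub, map_smul, hy, smul_eq_mul, mul_one, sub_self]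
  have hτeL' : τ e ∈ L' := by
    show q (τ e) = 0
    rw [hq]
    show y - φ y • y = 0
    rw [hy, one_smul, sub_self]
  have hsL' : τ (s, 0) ∈ L' := by
    have : τ (s, (0:R)) = (s, 0) := by ext <;> simp [τ]
    rw [this]
    show q (s, 0) = 0
    rw [hq, (hπ0 _).2 hs, map_zero, zero_smul, sub_zero]
  -- `L' ≅ L × R`
  let eL : (L × R) ≃ₗ[R] L' :=
    LinearEquiv.ofLinear
      ((L.subtype.coprod ((LinearMap.toSpanSingleton R _ ((y : P × R))))).codRestrict L' fun x => by
        show q (L.subtype.coprod (LinearMap.toSpanSingleton R _ ((y : P × R))) x) = 0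
        simp only [LinearMap.coprod_apply, Submodule.coe_subtype, LinearMap.toSpanSingleton_apply]
        rw [map_add, map_smul, hq, (hπ0 _).2 x.1.2, map_zero, zero_smul, sub_zero, zero_add, hq, hπC,
          hy, one_smul, sub_self, smul_zero])
      (LinearMap.prod
        ((LinearMap.id - C.subtype ∘ₗ π).comp L'.subtype |>.codRestrict L fun x => by
          rw [← hπ0]
          show π ((x : P × R) - (π x : P × R)) = 0
          rw [map_sub, hπC, sub_self])
        (φ ∘ₗ π ∘ₗ L'.subtype))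
      (LinearMap.ext fun x => Subtype.ext (by
        have hx : π (x : P × R) = φ (π (x : P × R)) • y := sub_eq_zero.1 x.2
        show ((x : P × R) - (π x : P × R)) + φ (π x) • (y : P × R) = x
        rw [← Submodule.coe_smul, ← hx, sub_add_cancel]))
      (LinearMap.ext fun x => by
        have h0 : π (x.1 : P × R) = 0 := (hπ0 _).2 x.1.2
        have hπx : π ((x.1 : P × R) + x.2 • (y : P × R)) = x.2 • y := by
          rw [map_add, map_smul, h0, hπC, zero_add]
        refine Prod.ext (Subtype.ext ?_) ?_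
        · show ((x.1 : P × R) + x.2 • (y : P × R)) - (π ((x.1 : P × R) + x.2 • (y : P × R)) : P × R) = x.1
          rw [hπx, Submodule.coe_smul, add_sub_cancel_right]
        · show φ (π ((x.1 : P × R) + x.2 • (y : P × R))) = x.2
          rw [hπx, map_smul, hy, smul_eq_mul, mul_one])
  -- pull back along `τ` and intersect with `P`
  let K : Submodule R P := L'.comap (τ.toLinearMap ∘ₗ LinearMap.inl R P R)
  let K' : Submodule R P := (C'.comap τ.toLinearMap).map (LinearMap.fst R P R)
  have hKe : ∀ (p : P) (t : R), τ (p, t) ∈ L' ↔ p ∈ K := by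
    intro p t
    have h1 : τ (p, t) = τ (p, 0) + t • τ e := by rw [← map_smul, ← map_add]; simp [e]
    rw [h1]
    exact Submodule.add_mem_iff_left _ (L'.smul_mem t hτeL')
  have hKK : IsCompl K K' := by
    refine IsCompl.of_eq ?_ ?_
    · rw [Submodule.eq_bot_iff]
      rintro _ ⟨hx, ⟨p, t⟩, hc, rfl⟩
      have h0 := Submodule.disjoint_def.1 hcompl.disjoint _ ((hKe p t).2 hx) hc
      rw [τ.map_eq_zero_iff] at h0
      exact congrArg Prod.fst h0
    · rw [eq_top_iff]
      rintro p -
      obtain ⟨a, ha, b, hb, hab⟩ := Submodule.mem_sup.1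
        (hcompl.sup_eq_top ▸ Submodule.mem_top : τ (p, 0) ∈ L' ⊔ C')
      have ha' : τ (τ.symm a) ∈ L' := by rwa [τ.apply_symm_apply]
      have hp : p = (τ.symm a).1 + (τ.symm b).1 := by
        have := congrArg (fun x => (τ.symm x).1) hab
        simpa using this.symm
      rw [hp]
      refine Submodule.add_mem_sup ((hKe _ (τ.symm a).2).1 ha') ⟨τ.symm b, ?_, rfl⟩
      show τ (τ.symm b) ∈ C'
      rwa [τ.apply_symm_apply]
  let eK : (K × R) ≃ₗ[R] L' :=
    LinearEquiv.ofBijective
      ((τ.toLinearMap ∘ₗ (K.subtype.prodMap LinearMap.id)).codRestrict L' fun x => (hKe x.1 x.2).2 x.1.2)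
      ⟨fun a b hab => by
        have := τ.injective (congrArg Subtype.val hab)
        exact Prod.ext (Subtype.ext (congrArg (fun z : P × R => z.1) this)) (congrArg (fun z : P × R => z.2) this),
       fun z => by
        have hz : τ (τ.symm z) ∈ L' := by rw [τ.apply_symm_apply]; exact z.2
        refine ⟨(⟨(τ.symm z).1, (hKe _ (τ.symm z).2).1 hz⟩, (τ.symm z).2), Subtype.ext ?_⟩
        exact τ.apply_symm_apply _⟩
  let eKL : (K × R) ≃ₗ[R] (L × R) := eK.trans eL.symm
  haveI := hLfin
  haveI : Module.Finite R (K × R) := Module.Finite.equiv eKL.symm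
  have hKfin : Module.Finite R K := Module.Finite.of_surjective (LinearMap.fst R K R) Prod.fst_surjective
  obtain ⟨N, _, _, _, _, hfree⟩ := Module.IsStablyFree.exist_free_prod R L
  haveI := hfree
  let big : ((L × N) × R) ≃ₗ[R] (K × (R × N)) :=
    (LinearEquiv.prodAssoc R L N R).trans (((LinearEquiv.refl R L).prodCongr (LinearEquiv.prodComm R N R)).trans
      ((LinearEquiv.prodAssoc R L R N).symm.trans ((eKL.symm.prodCongr (LinearEquiv.refl R N)).trans
        (LinearEquiv.prodAssoc R K R N))))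
  haveI : Module.Free R (K × (R × N)) := Module.Free.of_equiv big
  exact ⟨K, K', hKK, hKfin, Module.IsStablyFree.of_free_prod R K (R × N), hsL'⟩

omit [IsNoetherianRing (R ⧸ (⊥ : Ideal R).jacobson)] in
theorem HasSummand.map {Q : Type u} [AddCommGroup Q] [Module R Q] (e : P ≃ₗ[R] Q) {s : P}
    (h : HasSummand R P s) : HasSummand R Q (e s) := by
  obtain ⟨K, K', hK, hfin, hsf, hs⟩ := h
  let ek := e.submoduleMap K
  exact ⟨K.map (e : P →ₗ[R] Q), K'.map (e : P →ₗ[R] Q),
    hK.map (Submodule.orderIsoMapComap e), Module.Finite.equiv ek, hsf.equiv ek, ⟨s, hs, rfl⟩⟩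

omit [IsNoetherianRing (R ⧸ (⊥ : Ideal R).jacobson)] in
theorem big_prod (hP : Big R P) (X : Type u) [AddCommGroup X] [Module R X] : Big R (P × X) := by
  intro m hm N hN h
  refine hP m hm (N.map (LinearMap.fst R P X)) (hN.map _) ?_
  have := congrArg (Submodule.map (LinearMap.fst R P X)) h
  rwa [Submodule.map_sup, Submodule.map_smul'', Submodule.map_top, LinearMap.range_eq_top.2 (LinearMap.fst_surjective)] at this

theorem reduce_fin [Module.Projective R P] (hP : Big R P) {s : P} :
    ∀ n, HasSummand R (P × (Fin n → R)) (s, 0) → HasSummand R P s := by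
  intro n
  induction n with
  | zero =>
    intro h
    haveI : Unique (Fin 0 → R) := Pi.uniqueOfIsEmpty _
    simpa using h.map (LinearEquiv.prodUnique : (P × (Fin 0 → R)) ≃ₗ[R] P)
  | succ n ih =>
    intro h
    refine ih (reduce_one (big_prod hP _) ?_)
    let e : (P × (Fin (n + 1) → R)) ≃ₗ[R] ((P × (Fin n → R)) × R) :=
      ((LinearEquiv.refl R P).prodCongr ((Fin.consLinearEquiv R fun _ : Fin (n + 1) => R).symm.trans
        (LinearEquiv.prodComm R R (Fin n → R)))).trans (LinearEquiv.prodAssoc R P (Fin n → R) R).symm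
    have he : e (s, 0) = ((s, 0), 0) := rfl
    exact he ▸ h.map e

theorem hasSummand [Module.Projective R P] (hP : Big R P) (s : P) : HasSummand R P s := by
  classical
  obtain ⟨i, hi⟩ := Module.Projective.out (R := R) (P := P)
  let n := (i s).support.card
  let ε := (i s).support.equivFin
  let a : (Fin n → R) →ₗ[R] P := Fintype.linearCombination R fun k => (ε.symm k : P)
  let b : P →ₗ[R] (Fin n → R) := LinearMap.pi fun k => Finsupp.lapply (ε.symm k : P) ∘ₗ i
  have hab : a (b s) = s := by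
    conv_rhs => rw [← hi s, Finsupp.linearCombination_apply, Finsupp.sum, ← Finset.sum_coe_sort]
    rw [Fintype.linearCombination_apply]
    exact Fintype.sum_equiv ε.symm _ _ fun k => rfl
  refine reduce_fin hP n ?_
  let f : (Fin n → R) →ₗ[R] (P × (Fin n → R)) := LinearMap.prod a (LinearMap.id - b ∘ₗ a)
  let g : (P × (Fin n → R)) →ₗ[R] (Fin n → R) := b.coprod LinearMap.id
  have hgf : ∀ v, g (f v) = v := fun v => by simp [f, g]
  refine ⟨LinearMap.range f, LinearMap.ker g, ?_, inferInstance, ?_, ⟨b s, ?_⟩⟩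
  · refine IsCompl.of_eq ?_ ?_
    · rw [Submodule.eq_bot_iff]
      rintro _ ⟨⟨v, rfl⟩, hv⟩
      rw [SetLike.mem_coe, LinearMap.mem_ker, hgf] at hv
      rw [hv, map_zero]
    · rw [eq_top_iff]
      rintro x -
      rw [← add_sub_cancel (f (g x)) x]
      exact Submodule.add_mem_sup ⟨_, rfl⟩ (by rw [LinearMap.mem_ker, map_sub, hgf, sub_self])
  · haveI : Module.Free R (LinearMap.range f) :=
      Module.Free.of_equiv (LinearEquiv.ofInjective f (Function.LeftInverse.injective hgf))
    infer_instance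
  · simp [f, hab]

end Groth.Agent.BassBig
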