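import Groth.Agent.BassBig.Basic
import Groth.Prelude.Def_Found

/-!
# Countably generated big projective modules are free (Bass)
-/

universe u

namespace Groth.Agent.BassBig

variable {R : Type u} [CommRing R] {P : Type u} [AddCommGroup P] [Module R P]

theorem big_of_isCompl (hP : Big R P) {L C : Submodule R P} (hLC : IsCompl L C) (hL : L.FG) :
    Big R C := by
  intro m hm N hN h
  refine hP m hm (L ⊔ N.map C.subtype) (hL.sup (hN.map _)) (top_le_iff.1 (hLC.sup_eq_top.ge.trans ?_))
  refine sup_le (le_sup_left.trans le_sup_left) ?_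
  have h' := congrArg (Submodule.map C.subtype) h
  rw [Submodule.map_sup, Submodule.map_smul'', Submodule.map_subtype_top] at h'
  exact h'.ge.trans (sup_le_sup le_sup_right (Submodule.smul_mono le_rfl le_top))

theorem projective_of_isCompl [Module.Projective R P] {L C : Submodule R P} (hLC : IsCompl L C) :
    Module.Projective R C :=
  Module.Projective.of_split C.subtype (C.projectionOnto L hLC.symm)
    (LinearMap.ext (Submodule.projectionOnto_apply_left hLC.symm))

/-- Complements inside a complement. -/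
theorem isCompl_map_sup {L C : Submodule R P} (hLC : IsCompl L C) {K K' : Submodule R C}
    (hK : IsCompl K K') : IsCompl (L ⊔ K.map C.subtype) (K'.map C.subtype) := by
  refine IsCompl.of_eq ?_ ?_
  · rw [Submodule.eq_bot_iff]
    rintro _ ⟨hx, c', hc', rfl⟩
    obtain ⟨l, hl, _, ⟨k, hk, rfl⟩, h⟩ := Submodule.mem_sup.1 hx
    have hl' : l = ((c' - k : C) : P) := by
      rw [Submodule.coe_sub]; exact eq_sub_of_add_eq h
    have h0 : c' - k = 0 := Subtype.ext (Submodule.disjoint_def.1 hLC.disjoint _ (hl' ▸ hl) (c' - k).2)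
    rw [sub_eq_zero] at h0
    rw [Submodule.coe_subtype, ZeroMemClass.coe_eq_zero]
    exact Submodule.disjoint_def.1 hK.disjoint _ (h0 ▸ hk) hc'
  · rw [sup_assoc, ← Submodule.map_sup, hK.sup_eq_top, Submodule.map_subtype_top, hLC.sup_eq_top]

/-- A sum of two disjoint submodules is their product. -/
noncomputable def supEquiv {A B : Submodule R P} (h : Disjoint A B) : (A × B) ≃ₗ[R] (A ⊔ B : Submodule R P) :=
  (LinearEquiv.ofInjective (A.subtype.coprod B.subtype) (by
    rw [← LinearMap.ker_eq_bot, LinearMap.ker_coprod_of_disjoint_range]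
    · simp
    · simpa using h)).trans (LinearEquiv.ofEq _ _ (by simp [LinearMap.range_coprod]))

variable [IsNoetherianRing (R ⧸ (⊥ : Ideal R).jacobson)]

theorem exists_free_summand [Module.Projective R P] (hP : Big R P) : ∀ n : ℕ,
    ∃ U C : Submodule R P, IsCompl U C ∧ Module.Finite R U ∧ Nonempty ((Fin n → R) ≃ₗ[R] U) := by
  intro n
  induction n with
  | zero =>
    refine ⟨⊥, ⊤, isCompl_bot_top, Module.Finite.bot R P, ⟨?_⟩⟩
    exact LinearEquiv.ofSubsingleton _ _
  | succ n ih =>
    obtain ⟨U, C, hUC, hfin, ⟨e⟩⟩ := ih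
    haveI := projective_of_isCompl hUC
    have hC := big_of_isCompl hP hUC (Module.Finite.iff_fg.1 hfin)
    obtain ⟨m, -, φ, hφ⟩ := exists_unimodular hC (0 : C) ⊤ (by simp)
    rw [zero_add] at hφ
    let ι : R →ₗ[R] C := LinearMap.toSpanSingleton R C m
    have hφι : ∀ r, φ (ι r) = r := fun r => by simp [ι, hφ]
    have hinj : Function.Injective ι := Function.LeftInverse.injective hφι
    have hK : IsCompl (LinearMap.range ι) (LinearMap.ker φ) := by
      refine IsCompl.of_eq ?_ ?_
      · rw [Submodule.eq_bot_iff]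
        rintro _ ⟨⟨r, rfl⟩, hr⟩
        rw [SetLike.mem_coe, LinearMap.mem_ker, hφι] at hr
        rw [hr, map_zero]
      · rw [eq_top_iff]
        rintro x -
        rw [← add_sub_cancel (ι (φ x)) x]
        exact Submodule.add_mem_sup ⟨_, rfl⟩ (by rw [LinearMap.mem_ker, map_sub, hφι, sub_self])
    refine ⟨_, _, isCompl_map_sup hUC hK, ?_, ⟨?_⟩⟩
    · haveI := hfin
      haveI : Module.Finite R ((LinearMap.range ι).map C.subtype) := inferInstance
      exact Module.Finite.iff_fg.2 ((Module.Finite.iff_fg.1 hfin).sup (Module.Finite.iff_fg.1 this))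
    · exact (Fin.consLinearEquiv R fun _ : Fin (n + 1) => R).symm.trans
        ((LinearEquiv.prodComm R R (Fin n → R)).trans
          ((e.prodCongr ((LinearEquiv.ofInjective ι hinj).trans
            ((LinearMap.range ι).equivMapOfInjective C.subtype C.injective_subtype))).trans
              (supEquiv (hUC.disjoint.mono_right (Submodule.map_subtype_le _ _)))))

theorem exists_free_summand_containing [Module.Projective R P] (hP : Big R P) (s : P) :
    ∃ K K' : Submodule R P, IsCompl K K' ∧ Module.Finite R K ∧ Module.Free R K ∧ s ∈ K := by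
  obtain ⟨K, K', hK, hfin, hsf, hs⟩ := hasSummand hP s
  haveI := projective_of_isCompl hK
  have hK' := big_of_isCompl hP hK (Module.Finite.iff_fg.1 hfin)
  obtain ⟨N, _, _, _, _, hfree⟩ := Module.IsStablyFree.exist_free_prod R K
  haveI := hfree
  rcases subsingleton_or_nontrivial R with hR | hR
  · haveI : Subsingleton K := Module.subsingleton R K
    exact ⟨K, K', hK, hfin, inferInstance, hs⟩
  obtain ⟨U, C, hUC, hUfin, ⟨e⟩⟩ := exists_free_summand hK' (Module.finrank R N)
  let eN : N ≃ₗ[R] (Fin (Module.finrank R N) → R) :=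
    (Module.finBasis R N).equivFun
  refine ⟨_, _, isCompl_map_sup hK hUC, ?_, ?_, Submodule.mem_sup_left hs⟩
  · exact Module.Finite.iff_fg.2 ((Module.Finite.iff_fg.1 hfin).sup ((Module.Finite.iff_fg.1 hUfin).map _))
  · exact Module.Free.of_equiv
      (((LinearEquiv.refl R K).prodCongr ((eN.trans e).trans
        (U.equivMapOfInjective K'.subtype K'.injective_subtype))).trans
          (supEquiv (hK.disjoint.mono_right (Submodule.map_subtype_le _ _))))

theorem free_of_countablyGenerated [Module.Projective R P] (hP : Big R P)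
    (hc : CAlg.IsCountablyGenerated R P) : Module.Free R P := by
  classical
  obtain ⟨G, hGc, hG⟩ := hc
  obtain ⟨g, hg⟩ := (hGc.insert (0 : P)).exists_eq_range (Set.insert_nonempty 0 G)
  let St := { LC : Submodule R P × Submodule R P // IsCompl LC.1 LC.2 ∧ LC.1.FG }
  have step : ∀ (t : St) (x : P), ∃ (t' : St) (K : Submodule R P), K ≤ t.1.2 ∧ t'.1.2 ≤ t.1.2 ∧
      t'.1.1 = t.1.1 ⊔ K ∧ Disjoint K t'.1.2 ∧ x ∈ t'.1.1 ∧ Module.Free R K := by
    rintro ⟨⟨L, C⟩, hLC, hL⟩ x
    haveI := projective_of_isCompl hLC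
    obtain ⟨K, K', hK, hfin, hfree, hx⟩ :=
      exists_free_summand_containing (big_of_isCompl hP hLC hL) (C.projectionOnto L hLC.symm x)
    refine ⟨⟨(L ⊔ K.map C.subtype, K'.map C.subtype), isCompl_map_sup hLC hK,
      hL.sup ((Module.Finite.iff_fg.1 hfin).map _)⟩, K.map C.subtype, Submodule.map_subtype_le _ _,
      Submodule.map_subtype_le _ _, rfl, Submodule.disjoint_map C.injective_subtype hK.disjoint, ?_,
      Module.Free.of_equiv (K.equivMapOfInjective C.subtype C.injective_subtype)⟩
    show x ∈ L ⊔ K.map C.subtype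
    rw [← sub_add_cancel x (C.projectionOnto L hLC.symm x : P)]
    refine Submodule.add_mem_sup ?_ ⟨_, hx, rfl⟩
    rw [← Submodule.projectionOnto_apply_eq_zero_iff hLC.symm, map_sub,
      Submodule.projectionOnto_apply_left, sub_self]
  choose next piece h1 h2 h3 h4 h5 h6 using step
  let seq : ℕ → St := fun n => Nat.rec ⟨(⊥, ⊤), isCompl_bot_top, Submodule.fg_bot⟩ (fun k t => next t (g k)) n
  have hseq : ∀ n, seq (n + 1) = next (seq n) (g n) := fun n => rfl
  let K : ℕ → Submodule R P := fun n => piece (seq n) (g n)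
  have hanti : ∀ n j, n ≤ j → (seq j).1.2 ≤ (seq n).1.2 := by
    intro n j hj
    induction j, hj using Nat.le_induction with
    | base => exact le_rfl
    | succ j _ ih => exact (hseq j ▸ h2 (seq j) (g j)).trans ih
  have hL : ∀ n, (seq n).1.1 ≤ ⨆ j, ⨆ _ : j < n, K j := by
    intro n
    induction n with
    | zero => exact bot_le
    | succ n ih =>
      rw [hseq, h3]
      refine sup_le (ih.trans (biSup_mono fun j hj => Nat.lt_succ_of_lt hj)) ?_
      exact le_iSup₂ (f := fun j (_ : j < n + 1) => K j) n (Nat.lt_succ_self n)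
  have hmonoL : ∀ n j, n ≤ j → (seq n).1.1 ≤ (seq j).1.1 := by
    intro n j hj
    induction j, hj using Nat.le_induction with
    | base => exact le_rfl
    | succ j _ ih => rw [hseq, h3]; exact ih.trans le_sup_left
  have hind : iSupIndep K := by
    intro n
    have hle : (⨆ j, ⨆ _ : j ≠ n, K j) ≤ (seq n).1.1 ⊔ (seq (n + 1)).1.2 := by
      refine iSup₂_le fun j hj => ?_
      rcases lt_or_gt_of_ne hj with h | h
      · refine le_sup_of_le_left (le_trans ?_ (hmonoL (j + 1) n h))
        rw [hseq, h3]; exact le_sup_right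
      · exact le_sup_of_le_right ((h1 _ _).trans (hanti (n + 1) j h))
    rw [Submodule.disjoint_def]
    intro x hx hx'
    obtain ⟨l, hl, c, hc, hlc⟩ := Submodule.mem_sup.1 (hle hx')
    have hc0 : c ∈ (seq n).1.2 := (hseq n ▸ h2 (seq n) (g n)) hc
    have hl0 : l = 0 := Submodule.disjoint_def.1 (seq n).2.1.disjoint l hl (by
      rw [eq_sub_of_add_eq hlc]
      exact sub_mem (h1 _ _ hx) hc0)
    rw [hl0, zero_add] at hlc
    subst hlc
    exact Submodule.disjoint_def.1 (hseq n ▸ h4 (seq n) (g n)) c hx hc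
  have htop : ⨆ n, K n = ⊤ := by
    rw [eq_top_iff, ← hG, Submodule.span_le]
    intro x hx
    obtain ⟨k, rfl⟩ : x ∈ Set.range g := hg ▸ Set.mem_insert_of_mem _ hx
    have hle : (seq (k + 1)).1.1 ≤ ⨆ j, K j := (hL (k + 1)).trans (iSup_mono fun j => iSup_const_le)
    exact hle (hseq k ▸ h5 (seq k) (g k))
  have hint := DirectSum.isInternal_submodule_of_iSupIndep_of_iSup_eq_top hind htop
  haveI : ∀ n, Module.Free R (K n) := fun n => h6 _ _
  exact Module.Free.of_equiv (LinearEquiv.ofBijective (DirectSum.coeLinearMap K) hint)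

end Groth.Agent.BassBig
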